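/-
Derivations of coset equations: assembled.
-/
import Cfsg.Agent.Lib.Spor.TC.Steps
import Cfsg.Agent.Lib.Spor.Fi24Pres.CX.Part0
import Cfsg.Agent.Lib.Spor.Fi24Pres.CX.Part1
import Cfsg.Agent.Lib.Spor.Fi24Pres.CX.Part2
import Cfsg.Agent.Lib.Spor.Fi24Pres.CX.Part3
import Cfsg.Agent.Lib.Spor.Fi24Pres.CX.Part4
import Cfsg.Agent.Lib.Spor.Fi24Pres.CX.Part5
import Cfsg.Agent.Lib.Spor.Fi24Pres.CX.Part6
import Cfsg.Agent.Lib.Spor.Fi24Pres.CX.Part7
import Cfsg.Agent.Lib.Spor.Fi24Pres.CX.Part8
import Cfsg.Agent.Lib.Spor.Fi24Pres.CX.Part9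

namespace CfsgLib.Spor.Fi24.CX

open CfsgLib.Spor.TC

theorem steps_ok : cert.StepsOK 0 59213 :=
  ((((steps0.append _ (steps1834.append _ steps3704)).append _ ((steps5596.append _ steps7521).append _ (steps9476.append _ steps11440))).append _ (((steps13425.append _ steps15426).append _ (steps17404.append _ steps19396)).append _ ((steps21410.append _ steps23394).append _ (steps25439.append _ steps27430)))).append _ (((steps29487.append _ (steps31485.append _ steps33528)).append _ ((steps35574.append _ steps37580).append _ (steps39637.append _ steps41650))).append _ (((steps43696.append _ steps45718).append _ (steps47722.append _ steps49735)).append _ ((steps51749.append _ steps53751).append _ (steps55817.append _ steps57812)))))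

theorem rels_eq : cert.rels = relWords relsX := by decide +kernel

end CfsgLib.Spor.Fi24.CX
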